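import Groth.Prelude.Def_SGA4b
import Groth.Agent.Unr55.Et.Lift
import Mathlib.CategoryTheory.Sites.DenseSubsite.Basic
import Mathlib.AlgebraicGeometry.Morphisms.Immersion
import Mathlib.AlgebraicGeometry.Morphisms.FlatMono

/-! Base change of small etale sites along immersions: cover dense and locally full. -/

set_option autoImplicit false
set_option linter.style.haveILetI false
set_option backward.isDefEq.respectTransparency.types false

universe u

open CategoryTheory CategoryTheory.Limits AlgebraicGeometry Opposite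

namespace Groth.Agent.An92.EtSets

open Groth.Agent.Unr55.EtSh

variable {Z X : Scheme.{u}} (f : Z ⟶ X)

/-- Points of a base change of an open subobject. -/
theorem exists_bc_openSub {P : X.Etale} (W : P.left.Opens) (z : ((EtCoh.bc f).obj P).left)
    (hz : pullback.fst P.hom f z ∈ W) :
    ∃ z' : ((EtCoh.bc f).obj (openSub P W)).left, ((EtCoh.bc f).map (openSubι P W)).left z' = z := by
  have sq := EtCoh.isPullback_bc_map f (openSubι P W)
  obtain ⟨w, hw⟩ : pullback.fst P.hom f z ∈ Set.range (openSubι P W).left := by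
    rw [range_openSubι]; exact hz
  obtain ⟨a, ha1, -⟩ := Scheme.Pullback.exists_preimage_pullback
    (f := (pullback.fst P.hom f : ((EtCoh.bc f).obj P).left ⟶ P.left)) (g := (openSubι P W).left) z w hw.symm
  exact ⟨sq.isoPullback.inv a, by
    rw [← Scheme.Hom.comp_apply, IsPullback.isoPullback_inv_fst]; exact ha1⟩

/-- Where the projections from base changes are inducing, base change is locally full. -/
theorem isLocallyFull (hf : ∀ V : X.Etale, Topology.IsInducing (pullback.fst V.hom f)) :
    (EtCoh.bc f).IsLocallyFull Z.smallEtaleTopology := by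
  refine ⟨fun {U V} φ => mem_topology fun x => ?_⟩
  have hU : Etale U.hom := U.prop
  have hV : Etale V.hom := V.prop
  let P : X.Etale := Scheme.Etale.mk (pullback.fst U.hom V.hom ≫ U.hom)
  let p₁ : P ⟶ U := MorphismProperty.Over.homMk (pullback.fst U.hom V.hom) rfl trivial
  let p₂ : P ⟶ V := MorphismProperty.Over.homMk (pullback.snd U.hom V.hom) pullback.condition.symm trivial
  have hφ : φ.left ≫ pullback.snd V.hom f = pullback.snd U.hom f := Over.w φ.hom
  have hc : pullback.fst U.hom f ≫ U.hom = (φ.left ≫ pullback.fst V.hom f) ≫ V.hom := by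
    rw [Category.assoc, pullback.condition]
    exact (congrArg (· ≫ f) hφ.symm).trans ((Category.assoc _ _ _).trans
      (congrArg (φ.left ≫ ·) pullback.condition.symm))
  let γ : pullback U.hom f ⟶ pullback U.hom V.hom :=
    pullback.lift (pullback.fst U.hom f) (φ.left ≫ pullback.fst V.hom f) hc
  have hγ : γ ≫ pullback.fst U.hom V.hom ≫ U.hom = pullback.snd U.hom f ≫ f := by
    rw [pullback.lift_fst_assoc, pullback.condition]
  let s₀ : pullback U.hom f ⟶ pullback (pullback.fst U.hom V.hom ≫ U.hom) f :=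
    pullback.lift γ (pullback.snd U.hom f) hγ
  let s : (EtCoh.bc f).obj U ⟶ (EtCoh.bc f).obj P :=
    MorphismProperty.Over.homMk s₀ (pullback.lift_snd _ _ _) trivial
  have h₁ : s ≫ (EtCoh.bc f).map p₁ = 𝟙 _ := by
    refine MorphismProperty.Over.Hom.ext (pullback.hom_ext ?_ ?_)
    · change (s₀ ≫ ((EtCoh.bc f).map p₁).left) ≫ pullback.fst U.hom f = 𝟙 _ ≫ _
      refine (Category.assoc _ _ _).trans ((congrArg (s₀ ≫ ·) (EtCoh.isPullback_bc_map f p₁).w).trans ?_)
      change s₀ ≫ pullback.fst _ _ ≫ pullback.fst U.hom V.hom = _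
      rw [pullback.lift_fst_assoc, pullback.lift_fst, Category.id_comp]
    · change (s₀ ≫ ((EtCoh.bc f).map p₁).left) ≫ pullback.snd U.hom f = 𝟙 _ ≫ _
      refine (Category.assoc _ _ _).trans ((congrArg (s₀ ≫ ·) (Over.w ((EtCoh.bc f).map p₁).hom)).trans ?_)
      refine (pullback.lift_snd _ _ _).trans (Category.id_comp _).symm
  have h₂ : s ≫ (EtCoh.bc f).map p₂ = φ := by
    refine MorphismProperty.Over.Hom.ext (pullback.hom_ext ?_ ?_)
    · change (s₀ ≫ ((EtCoh.bc f).map p₂).left) ≫ pullback.fst V.hom f = _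
      refine (Category.assoc _ _ _).trans ((congrArg (s₀ ≫ ·) (EtCoh.isPullback_bc_map f p₂).w).trans ?_)
      change s₀ ≫ pullback.fst _ _ ≫ pullback.snd U.hom V.hom = _
      rw [pullback.lift_fst_assoc, pullback.lift_snd]
      rfl
    · change (s₀ ≫ ((EtCoh.bc f).map p₂).left) ≫ pullback.snd V.hom f = _
      refine (Category.assoc _ _ _).trans ((congrArg (s₀ ≫ ·) (Over.w ((EtCoh.bc f).map p₂).hom)).trans ?_)
      exact (pullback.lift_snd _ _ _).trans hφ.symm
  have hse : Etale s.left := etale_left s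
  have hid : s.left ≫ ((EtCoh.bc f).map p₁).left = 𝟙 _ :=
    congrArg (fun k : (EtCoh.bc f).obj U ⟶ (EtCoh.bc f).obj U => k.left) h₁
  have : IsSplitMono s.left := ⟨⟨⟨_, hid⟩⟩⟩
  have : IsOpenImmersion s.left := IsOpenImmersion.of_flat_of_mono s.left
  let O : ((EtCoh.bc f).obj P).left.Opens := s.left.opensRange
  obtain ⟨W, hW, hWO⟩ := (hf P).isOpen_iff.1 O.isOpen
  let W' : P.left.Opens := ⟨W, hW⟩
  have hx : pullback.fst P.hom f (s.left x) ∈ W' := hWO.ge ⟨x, rfl⟩
  obtain ⟨z', hz'⟩ := exists_bc_openSub f W' (s.left x) hx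
  let h : openSub P W' ⟶ U := openSubι P W' ≫ p₁
  let m := (EtCoh.bc f).map (openSubι P W')
  have hm : Set.range m.left ⊆ Set.range s.left := by
    rintro _ ⟨q, rfl⟩
    refine hWO.le ?_
    have e : m.left ≫ pullback.fst P.hom f = pullback.fst (openSub P W').hom f ≫ W'.ι :=
      (EtCoh.isPullback_bc_map f (openSubι P W')).w
    change (m.left ≫ pullback.fst P.hom f) q ∈ W'
    rw [e]
    exact W'.range_ι.le ⟨_, rfl⟩
  have hk : m.left = IsOpenImmersion.lift s.left m.left hm ≫ s.left := (IsOpenImmersion.lift_fac _ _ hm).symm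
  have hkey : m ≫ (EtCoh.bc f).map p₂ = (m ≫ (EtCoh.bc f).map p₁) ≫ φ := by
    refine MorphismProperty.Over.Hom.ext ?_
    have e2 : s.left ≫ ((EtCoh.bc f).map p₂).left = φ.left :=
      congrArg (fun k : (EtCoh.bc f).obj U ⟶ (EtCoh.bc f).obj V => k.left) h₂
    change m.left ≫ ((EtCoh.bc f).map p₂).left = (m.left ≫ ((EtCoh.bc f).map p₁).left) ≫ φ.left
    rw [hk, Category.assoc, Category.assoc, Category.assoc, e2, ← Category.assoc s.left, hid, Category.id_comp]
  refine ⟨_, (EtCoh.bc f).map h, z', ⟨openSub P W', h, 𝟙 _, ⟨openSubι P W' ≫ p₂, ?_⟩, (Category.id_comp _).symm⟩, ?_⟩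
  · rw [Functor.map_comp, Functor.map_comp]
    exact hkey
  · change ((EtCoh.bc f).map (openSubι P W' ≫ p₁)).left z' = x
    rw [Functor.map_comp]
    change (m.left ≫ ((EtCoh.bc f).map p₁).left) z' = x
    rw [Scheme.Hom.comp_apply, hz', ← Scheme.Hom.comp_apply, hid]
    rfl

/-- Etale schemes over a closed or open subscheme lift locally. -/
theorem exists_lift_immersion [IsImmersion f] (U : Z.Etale) (x : U.left) :
    ∃ (V : X.Etale) (g : (EtCoh.bc f).obj V ⟶ U) (v : ((EtCoh.bc f).obj V).left), g.left v = x := by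
  have hU : Etale U.hom := U.prop
  let i := f.liftCoborder
  let j := f.coborderRange.ι
  have hij : i ≫ j = f := f.liftCoborder_ι
  obtain ⟨V, q, P, k, a, hq, hk, ⟨p, hp⟩, hP⟩ := exists_etale_lift_closed i U.hom x
  have hP' : IsPullback a (k ≫ U.hom) (q ≫ j) f := by
    have hcell : IsPullback i (𝟙 Z) j f := ⟨⟨by rw [hij, Category.id_comp]⟩, ⟨PullbackCone.IsLimit.mk _
      (fun c => c.snd)
      (fun c => (cancel_mono j).1 (by rw [Category.assoc, hij]; exact c.condition.symm))
      (fun c => Category.comp_id _) (fun c m _ h2 => (Category.comp_id m).symm.trans h2)⟩⟩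
    have h2 := hP.paste_vert hcell
    rw [Category.comp_id] at h2
    exact h2
  let V' : X.Etale := Scheme.Etale.mk (q ≫ j)
  let g : (EtCoh.bc f).obj V' ⟶ U := MorphismProperty.Over.homMk (hP'.isoPullback.inv ≫ k) (by
    change (hP'.isoPullback.inv ≫ k) ≫ U.hom = pullback.snd (q ≫ j) f
    rw [Category.assoc, IsPullback.isoPullback_inv_snd]) trivial
  refine ⟨V', g, hP'.isoPullback.hom p, ?_⟩
  change (hP'.isoPullback.inv ≫ k) (hP'.isoPullback.hom p) = x
  rw [← Scheme.Hom.comp_apply, Iso.hom_inv_id_assoc, hp]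

theorem isCoverDense [IsImmersion f] : (EtCoh.bc f).IsCoverDense Z.smallEtaleTopology := by
  refine ⟨fun U => mem_topology fun x => ?_⟩
  obtain ⟨V, g, v, hv⟩ := exists_lift_immersion f U x
  exact ⟨_, g, v, Presieve.in_coverByImage _ g, hv⟩

theorem isLocallyFull_immersion [IsImmersion f] : (EtCoh.bc f).IsLocallyFull Z.smallEtaleTopology :=
  isLocallyFull f fun V => by
    have : IsImmersion (pullback.fst V.hom f) := inferInstance
    exact (pullback.fst V.hom f).isEmbedding.isInducing

/-- Direct image along an immersion is fully faithful. -/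
theorem pushSh_full_faithful [IsImmersion f] : (EtDesc.pushSh f).Full ∧ (EtDesc.pushSh f).Faithful := by
  haveI := isCoverDense f
  haveI := isLocallyFull_immersion f
  exact ⟨inferInstance, inferInstance⟩

theorem isIso_counit [IsImmersion f] (F : EtDesc.Sh Z) : IsIso ((EtDesc.adjSh f).counit.app F) := by
  obtain ⟨_, _⟩ := pushSh_full_faithful f
  infer_instance

end Groth.Agent.An92.EtSets
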