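import Groth.Agent.An92.EtSets.Stalk
import Groth.Agent.An92.EtSets.Dense
import Groth.Agent.S3896
import Groth.Prelude.Def_EtOpen
import Mathlib.CategoryTheory.Comma.Over.Pullback

/-! Sheaves of sets over an open. -/

set_option autoImplicit false
set_option backward.isDefEq.respectTransparency.types false

universe u

open CategoryTheory CategoryTheory.Limits AlgebraicGeometry Opposite

namespace Groth.Agent.An92.EtSets

open Groth.Agent.Unr55.EtSh

/-- Filtered colimits of sets are exact. -/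
instance ab5Type : AB5OfSize.{u, u} (Type (u + 1)) := ⟨fun J _ _ =>
  haveI : IsFiltered (AsSmall.{u + 1} J) := IsFiltered.of_equivalence AsSmall.equiv
  haveI : HasExactColimitsOfShape (AsSmall.{u + 1} J) (Type (u + 1)) := ⟨inferInstance⟩
  HasExactColimitsOfShape.of_domain_equivalence _ AsSmall.equiv.symm⟩

variable {X : Scheme.{u}} (U : X.Opens) {Ω : Type u} [Field Ω] [IsSepClosed Ω]
  (ξ : Spec (CommRingCat.of Ω) ⟶ X)

theorem unique_stalk_repSh (h : ξ default ∈ U) :
    Nonempty (Unique ((stalkSh ξ).obj (EtDesc.repSh (EtDesc.ofOpen U)))) := by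
  refine unique_stalk_of_refined ξ _ fun W t => ?_
  have hW : hom ξ t default ∈ W.hom ⁻¹ᵁ U := by
    show W.hom (hom ξ t default) ∈ U
    have e : hom ξ t ≫ W.hom = ξ := Over.w t
    rwa [← Scheme.Hom.comp_apply, e]
  let V := openSub W (W.hom ⁻¹ᵁ U)
  refine ⟨V, openSubι W _, ptOpen _ t hW, map_ptOpen _ t hW, ?_⟩
  have hr : Set.range V.hom ⊆ (U : Set X) := by
    rintro _ ⟨v, rfl⟩
    exact v.2
  let s := (toSheafify X.smallEtaleTopology (S3896.repP (EtDesc.ofOpen U))).app (op V) ⟨S3896.liftOpenEt U hr⟩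
  exact ⟨{ default := s, uniq := fun a => (S3896.subsingleton_repSh U V).elim a s }⟩

theorem isEmpty_stalk_repSh (h : ξ default ∉ U) :
    IsEmpty ((stalkSh ξ).obj (EtDesc.repSh (EtDesc.ofOpen U))) := by
  refine ⟨fun a => h ?_⟩
  obtain ⟨W, t, s, -⟩ := (Scheme.pointSmallEtale ξ).toPresheafFiber_jointly_surjective
    (P := (EtDesc.repSh (EtDesc.ofOpen U)).obj) a
  obtain ⟨V, g, v, ⟨b, -⟩, hv⟩ := S3896.covering_points (Presheaf.imageSieve_mem X.smallEtaleTopology
    (toSheafify X.smallEtaleTopology (S3896.repP (EtDesc.ofOpen U))) s) (hom ξ t default)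
  have e : hom ξ t ≫ W.hom = ξ := Over.w t
  have e' : g.left ≫ W.hom = V.hom := Over.w g.hom
  have h2 := S3896.range_subset_of_hom b.down ⟨v, rfl⟩
  rw [← e', Scheme.Hom.comp_apply, hv, ← Scheme.Hom.comp_apply, e] at h2
  exact h2

theorem bijective_pullSh {f : (U : Scheme.{u}) ⟶ X} {F G : EtDesc.Sh X} (φ : F ⟶ G)
    (η : Spec (CommRingCat.of Ω) ⟶ U) :
    Function.Bijective ((stalkSh η).map ((EtDesc.pullSh f).map φ)) ↔
      Function.Bijective ((stalkSh (η ≫ f)).map φ) := by
  rw [← isIso_iff_bijective, ← isIso_iff_bijective]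
  exact NatIso.isIso_map_iff (stalkPullShIso f η) φ

theorem isEquivalence_pull_over :
    (Over.forget (EtDesc.repSh (EtDesc.ofOpen U)) ⋙ EtDesc.pullSh U.ι).IsEquivalence := by
  let S := EtDesc.repSh (EtDesc.ofOpen U)
  let adj : Over.forget S ⋙ EtDesc.pullSh U.ι ⊣ EtDesc.pushSh U.ι ⋙ Over.star S :=
    (Over.forgetAdjStar S).comp (EtDesc.adjSh U.ι)
  have hcounit : ∀ H, IsIso (adj.counit.app H) := fun H => by
    have : IsIso ((EtDesc.pullSh U.ι).map ((Over.forgetAdjStar S).counit.app ((EtDesc.pushSh U.ι).obj H))) := by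
      refine isIso_of_stalks_sets _ fun K _ _ η => (bijective_pullSh U _ η).2 ?_
      rw [Over.forgetAdjStar_counit_app, ← isIso_iff_bijective]
      obtain ⟨i⟩ := unique_stalk_repSh U (η ≫ U.ι) (η default).2
      let c := mapIsLimitOfPreservesOfIsLimit (stalkSh (η ≫ U.ι)) _ _ (prodIsProd S ((EtDesc.pushSh U.ι).obj H))
      let T : IsTerminal ((stalkSh (η ≫ U.ι)).obj S) := (Types.isTerminalEquivUnique _).symm i
      refine ⟨BinaryFan.IsLimit.lift' c (T.from _) (𝟙 _) |>.1, ?_, (BinaryFan.IsLimit.lift' c (T.from _) (𝟙 _)).2.2⟩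
      refine BinaryFan.IsLimit.hom_ext c (T.hom_ext _ _) ?_
      refine (Category.assoc _ _ _).trans ((congrArg (_ ≫ ·) (BinaryFan.IsLimit.lift' c (T.from _) (𝟙 _)).2.2).trans ?_)
      exact (Category.comp_id _).trans (Category.id_comp _).symm
    have := isIso_counit U.ι H
    rw [Adjunction.comp_counit_app]
    exact IsIso.comp_isIso
  have : IsIso adj.counit := NatIso.isIso_of_isIso_app _
  have hrefl : (Over.forget S ⋙ EtDesc.pullSh U.ι).ReflectsIsomorphisms := ⟨fun {F G} φ hφ => by
    have : IsIso φ.left := isIso_of_stalks_sets _ fun K _ _ ξ => by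
      by_cases h : ξ default ∈ U
      · obtain ⟨η, rfl⟩ : ∃ η, η ≫ U.ι = ξ := ⟨liftOpen U ξ h, liftOpen_fac U ξ h⟩
        have : IsIso ((EtDesc.pullSh U.ι).map φ.left) := hφ
        exact (bijective_pullSh U φ.left η).1 ((isIso_iff_bijective _).1 inferInstance)
      · have := isEmpty_stalk_repSh U ξ h
        have hF := Function.isEmpty ((stalkSh ξ).map F.hom)
        have hG := Function.isEmpty ((stalkSh ξ).map G.hom)
        exact ⟨fun a => hF.elim a, fun a => hG.elim a⟩
    have : IsIso ((Over.forget S).map φ) := this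
    exact isIso_of_reflects_iso φ (Over.forget S)⟩
  have : ∀ F, IsIso (adj.unit.app F) := fun F => by
    have h := adj.left_triangle_components F
    have : IsIso ((Over.forget S ⋙ EtDesc.pullSh U.ι).map (adj.unit.app F) ≫ adj.counit.app _) := by
      rw [h]; exact IsIso.id _
    have := hcounit ((Over.forget S ⋙ EtDesc.pullSh U.ι).obj F)
    have : IsIso ((Over.forget S ⋙ EtDesc.pullSh U.ι).map (adj.unit.app F)) :=
      IsIso.of_isIso_comp_right _ (adj.counit.app _)
    exact isIso_of_reflects_iso _ (Over.forget S ⋙ EtDesc.pullSh U.ι)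
  have : IsIso adj.unit := NatIso.isIso_of_isIso_app _
  exact adj.toEquivalence.isEquivalence_functor

end Groth.Agent.An92.EtSets
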