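import Groth.Prelude.Def_SGA4b
import Groth.Agent.Unr55.Et.Open
import Mathlib.CategoryTheory.Sites.DenseSubsite.SheafEquiv
import Mathlib.AlgebraicGeometry.Morphisms.FlatMono
import Mathlib.AlgebraicGeometry.Morphisms.Etale
import Mathlib.FieldTheory.IsSepClosed
import Mathlib.AlgebraicGeometry.Sites.EtalePoint

/-! Invariance of the etale topos of a separably closed field. -/

set_option autoImplicit false
set_option linter.style.haveILetI false
set_option backward.isDefEq.respectTransparency.types false

universe u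

open CategoryTheory CategoryTheory.Limits AlgebraicGeometry Opposite

namespace Groth.Agent.An92.EtSets

open Groth.Agent.Unr55.EtSh

variable (k k' : Type u) [Field k] [IsSepClosed k] [Field k'] [IsSepClosed k']
  (u : Spec (CommRingCat.of k') ⟶ Spec (CommRingCat.of k))

/-- The final etale scheme. -/
noncomputable abbrev finalEt (S : Scheme.{u}) : S.Etale := Scheme.Etale.mk (𝟙 S)

omit [Field k'] [IsSepClosed k'] in
theorem exists_section {U : (Spec (CommRingCat.of k)).Etale} (x : U.left) :
    ∃ (l : finalEt (Spec (CommRingCat.of k)) ⟶ U) (p : (Spec (CommRingCat.of k) : Scheme.{u})), l.left p = x := by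
  have : Etale U.hom := U.prop
  obtain ⟨l, hl, hlx⟩ := Scheme.exists_fac_of_etale_of_isSepClosed U.hom (𝟙 _) x
    (Subsingleton.elim (α := (Spec (CommRingCat.of k) : Scheme.{u})) _ _)
  exact ⟨MorphismProperty.Over.homMk l hl trivial, _, hlx⟩

/-- Maps into an etale scheme landing in a section are determined by their structure maps. -/
theorem eq_of_section {S : Scheme.{u}} {V : S.Etale} (m : finalEt S ⟶ V) {Z : Scheme.{u}} (a : Z ⟶ V.left)
    (h : Set.range a ⊆ Set.range m.left) : a = (a ≫ V.hom) ≫ m.left := by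
  have hm : m.left ≫ V.hom = 𝟙 S := Over.w m.hom
  have := etale_left m
  have : IsSplitMono m.left := ⟨⟨⟨V.hom, hm⟩⟩⟩
  have : IsOpenImmersion m.left := IsOpenImmersion.of_flat_of_mono m.left
  have hc : IsOpenImmersion.lift m.left a h ≫ m.left = a := IsOpenImmersion.lift_fac m.left a h
  have h2 : a ≫ V.hom = IsOpenImmersion.lift m.left a h :=
    ((congrArg (· ≫ V.hom) hc).symm.trans ((Category.assoc _ _ _).trans
      ((congrArg (IsOpenImmersion.lift m.left a h ≫ ·) hm).trans (Category.comp_id _))))
  exact ((congrArg (· ≫ m.left) h2).trans hc).symm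

instance subsingleton_bc_final : Subsingleton ((EtCoh.bc u).obj (finalEt (Spec (CommRingCat.of k)))).left := by
  have : IsIso (pullback.snd (𝟙 (Spec (CommRingCat.of k))) u) := inferInstance
  exact (pullback.snd (𝟙 (Spec (CommRingCat.of k))) u).homeomorph.injective.subsingleton

theorem isCoverDense_sepClosed : (EtCoh.bc u).IsCoverDense (Spec (CommRingCat.of k')).smallEtaleTopology := by
  refine ⟨fun U => mem_topology fun x => ?_⟩
  obtain ⟨l, p, hl⟩ := exists_section k' x
  let g : (EtCoh.bc u).obj (finalEt (Spec (CommRingCat.of k))) ⟶ U :=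
    MorphismProperty.Over.homMk (pullback.snd (𝟙 (Spec (CommRingCat.of k))) u ≫ l.left) (by
      refine (Category.assoc _ _ _).trans ?_
      refine (congrArg (pullback.snd (𝟙 (Spec (CommRingCat.of k))) u ≫ ·) (Over.w l.hom)).trans ?_
      exact Category.comp_id _) trivial
  obtain ⟨z, -⟩ := (pullback.snd (𝟙 (Spec (CommRingCat.of k))) u).surjective p
  refine ⟨_, g, z, Presieve.in_coverByImage _ g, ?_⟩
  change l.left (pullback.snd _ u z) = x
  rw [Subsingleton.elim (pullback.snd (𝟙 (Spec (CommRingCat.of k))) u z) p]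
  exact hl

theorem isLocallyFull_sepClosed : (EtCoh.bc u).IsLocallyFull (Spec (CommRingCat.of k')).smallEtaleTopology := by
  refine ⟨fun {U V} φ => mem_topology fun x => ?_⟩
  obtain ⟨l, p, hl⟩ := exists_section k (pullback.fst U.hom u x)
  have sq := EtCoh.isPullback_bc_map u l
  obtain ⟨z, hz, -⟩ := Scheme.Pullback.exists_preimage_pullback
    (f := (pullback.fst U.hom u : ((EtCoh.bc u).obj U).left ⟶ U.left)) (g := l.left) x p hl.symm
  let z' := sq.isoPullback.inv z
  have hz' : ((EtCoh.bc u).map l).left z' = x := by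
    rw [← Scheme.Hom.comp_apply, IsPullback.isoPullback_inv_fst]; exact hz
  obtain ⟨m, p', hm⟩ := exists_section k (pullback.fst V.hom u ((((EtCoh.bc u).map l) ≫ φ).left z'))
  refine ⟨_, (EtCoh.bc u).map l, z', ⟨_, l, 𝟙 _, ⟨m, ?_⟩, (Category.id_comp _).symm⟩, hz'⟩
  have key : ∀ ψ : (EtCoh.bc u).obj (finalEt (Spec (CommRingCat.of k))) ⟶ (EtCoh.bc u).obj V,
      pullback.fst V.hom u (ψ.left z') = m.left p' →
      ψ.left ≫ pullback.fst V.hom u = (pullback.snd (𝟙 (Spec (CommRingCat.of k))) u ≫ u) ≫ m.left := fun ψ hψ => by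
    have hr : Set.range (ψ.left ≫ pullback.fst V.hom u) ⊆ Set.range m.left := by
      rintro _ ⟨w, rfl⟩
      exact ⟨p', by rw [Subsingleton.elim w z']; exact hψ.symm⟩
    refine (eq_of_section m _ hr).trans (congrArg (· ≫ m.left) ?_)
    exact (Category.assoc _ _ _).trans ((congrArg (ψ.left ≫ ·) pullback.condition).trans
      ((Category.assoc _ _ _).symm.trans (congrArg (· ≫ u) (Over.w ψ.hom))))
  refine MorphismProperty.Over.Hom.ext (pullback.hom_ext ?_ ?_)
  · refine (key _ ?_).trans (key _ hm.symm).symm
    have e : ((EtCoh.bc u).map m).left ≫ pullback.fst V.hom u =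
        pullback.fst (finalEt (Spec (CommRingCat.of k))).hom u ≫ m.left := (EtCoh.isPullback_bc_map u m).w
    refine (congrArg (fun q => q z') e).trans ?_
    exact congrArg m.left (Subsingleton.elim (α := (Spec (CommRingCat.of k) : Scheme.{u})) _ _)
  · exact (Over.w ((EtCoh.bc u).map m).hom).trans (Over.w (((EtCoh.bc u).map l) ≫ φ).hom).symm

variable [Surjective u] [Flat u]

omit [IsSepClosed k] [IsSepClosed k'] in
theorem faithful_bc : (EtCoh.bc u).Faithful := by
  refine ⟨fun {U V} a b e => MorphismProperty.Over.Hom.ext ?_⟩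
  have : Flat (pullback.fst U.hom u) := MorphismProperty.pullback_fst _ _ inferInstance
  have := Flat.epi_of_flat_of_surjective (pullback.fst U.hom u)
  rw [← cancel_epi (pullback.fst U.hom u)]
  refine (EtCoh.isPullback_bc_map u a).w.symm.trans ?_
  refine Eq.trans ?_ (EtCoh.isPullback_bc_map u b).w
  exact congrArg (fun q : (EtCoh.bc u).obj U ⟶ (EtCoh.bc u).obj V => q.left ≫ pullback.fst V.hom u) e

theorem isDenseSubsite_sepClosed :
    (EtCoh.bc u).IsDenseSubsite (Spec (CommRingCat.of k)).smallEtaleTopology (Spec (CommRingCat.of k')).smallEtaleTopology := by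
  have := isCoverDense_sepClosed k k' u
  have := isLocallyFull_sepClosed k k' u
  have := faithful_bc k k' u
  refine { functorPushforward_mem_iff := fun {U S} => ⟨fun h => mem_topology fun x => ?_,
    fun h => (EtCoh.coverPreserving_bc u).cover_preserve h⟩ }
  obtain ⟨y, hy⟩ := (pullback.fst U.hom u).surjective x
  have e : (Spec (CommRingCat.of k')).smallEtaleTopology = ((Spec (CommRingCat.of k')).smallPretopology
      (P := EtCoh.etaleMP) (Q := EtCoh.etaleMP)).toGrothendieck :=
    Scheme.smallGrothendieckTopology_eq_toGrothendieck_smallPretopology _ le_rfl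
  rw [e] at h
  obtain ⟨W, g, w, ⟨V, g', a, hg', rfl⟩, -, hw⟩ := (Scheme.mem_toGrothendieck_smallPretopology _ _).1 h y
  refine ⟨V, g', pullback.fst V.hom u (a.left w), hg', ?_⟩
  rw [← hy, ← hw]
  exact (congrArg (fun q => q (a.left w)) (EtCoh.isPullback_bc_map u g').w).symm

theorem pullSh_isEquivalence_sepClosed : (EtDesc.pullSh u).IsEquivalence := by
  have := isDenseSubsite_sepClosed k k' u
  have : (EtDesc.pushSh u).IsEquivalence := inferInstance
  exact (EtDesc.adjSh u).isEquivalence_left_of_isEquivalence_right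

end Groth.Agent.An92.EtSets
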