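import Groth.Agent.An92.EtSets.Dense
import Groth.Agent.Unr55.Et.Pull
import Groth.Agent.Unr55.Et.Open
import Mathlib.CategoryTheory.Sites.EpiMono
import Mathlib.CategoryTheory.Limits.Types.Limits

/-! Stalks of etale sheaves of sets at geometric points. -/

set_option autoImplicit false
set_option linter.style.haveILetI false
set_option backward.isDefEq.respectTransparency.types false

universe u

open CategoryTheory CategoryTheory.Limits AlgebraicGeometry Opposite

namespace Groth.Agent.An92.EtSets

open Groth.Agent.Unr55.EtSh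

instance : PreservesFilteredColimitsOfSize.{u, u} (forget (Type (u + 1))) :=
  preservesFilteredColimitsOfSize_shrink.{u, u + 1, u, u + 1} _

variable {X Y : Scheme.{u}}

/-- The stalk of a sheaf of sets. -/
noncomputable abbrev stalkSh {Ω : Type u} [Field Ω] [IsSepClosed Ω] (ξ : Spec (CommRingCat.of Ω) ⟶ X) :
    EtDesc.Sh X ⥤ Type (u + 1) :=
  (Scheme.pointSmallEtale ξ).sheafFiber (A := Type (u + 1))

/-- Monomorphisms are detected by stalks. -/
theorem mono_of_stalks_sets {F G : EtDesc.Sh X} (v : F ⟶ G)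
    (h : ∀ (K : Type u) [Field K] [IsSepClosed K] (ξ : Spec (CommRingCat.of K) ⟶ X),
      Function.Injective ((stalkSh ξ).map v)) : Mono v := by
  have : Mono v.hom := by
    rw [NatTrans.mono_iff_mono_app]
    intro U
    rw [CategoryTheory.mono_iff_injective]
    intro σ σ' hσ
    obtain ⟨U⟩ := U
    let S : Sieve U :=
      { arrows := fun V g => F.obj.map g.op σ = F.obj.map g.op σ'
        downward_closed := fun {V W g} hg k => by
          rw [op_comp, Functor.map_comp]
          exact congrArg (F.obj.map k.op) hg }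
    have hS : S ∈ X.smallEtaleTopology U := mem_topology fun x => by
      obtain ⟨K, _, _, η, t, ht⟩ := point_over U x
      have e : (Scheme.pointSmallEtale η).toPresheafFiber U t F.obj σ =
          (Scheme.pointSmallEtale η).toPresheafFiber U t F.obj σ' := by
        refine h K η ?_
        refine ((Scheme.pointSmallEtale η).toPresheafFiber_naturality_apply v.hom U t σ).trans ?_
        refine Eq.trans ?_ ((Scheme.pointSmallEtale η).toPresheafFiber_naturality_apply v.hom U t σ').symm
        exact congrArg _ hσ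
      obtain ⟨V, g, t', h1, h2⟩ := ((Scheme.pointSmallEtale η).toPresheafFiber_eq_iff' (P := F.obj) U t σ σ').1 e
      refine ⟨V, g, hom η t' default, h2, ?_⟩
      rw [← ht, ← h1]
      rfl
    exact (((isSheaf_iff_isSheaf_of_type _ _).1 F.property) S hS).isSeparatedFor.ext fun V g hg => hg
  exact (sheafToPresheaf X.smallEtaleTopology (Type (u + 1))).mono_of_mono_map this

/-- Epimorphisms are detected by stalks. -/
theorem epi_of_stalks_sets {F G : EtDesc.Sh X} (v : F ⟶ G)
    (h : ∀ (K : Type u) [Field K] [IsSepClosed K] (ξ : Spec (CommRingCat.of K) ⟶ X),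
      Function.Surjective ((stalkSh ξ).map v)) : Epi v := by
  have : Sheaf.IsLocallySurjective v := by
    refine ⟨fun {U} τ => mem_topology fun x => ?_⟩
    obtain ⟨K, _, _, η, t, ht⟩ := point_over U x
    let Φ := Scheme.pointSmallEtale η
    obtain ⟨s, hs⟩ := h K η (Φ.toPresheafFiber U t G.obj τ)
    obtain ⟨V, t', σ, rfl⟩ := Φ.toPresheafFiber_jointly_surjective (P := F.obj) s
    replace hs := (Φ.toPresheafFiber_naturality_apply v.hom V t' σ).symm.trans hs
    obtain ⟨⟨W, w⟩, a, b, -⟩ := IsCofiltered.toIsCofilteredOrEmpty.cone_objs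
      (C := (Scheme.pointSmallEtale η).fiber.Elements) ⟨U, t⟩ ⟨V, t'⟩
    have e : Φ.toPresheafFiber W w G.obj (G.obj.map a.val.op τ) =
        Φ.toPresheafFiber W w G.obj (v.hom.app (op W) (F.obj.map b.val.op σ)) := by
      have hn : v.hom.app (op W) (F.obj.map b.val.op σ) = G.obj.map b.val.op (v.hom.app (op V) σ) :=
        NatTrans.naturality_apply v.hom b.val.op σ
      rw [hn]
      refine (Φ.toPresheafFiber_w_apply a.val w G.obj τ).trans ?_
      refine Eq.trans ?_ (Φ.toPresheafFiber_w_apply b.val w G.obj _).symm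
      rw [show Φ.fiber.map a.val w = t from a.property, show Φ.fiber.map b.val w = t' from b.property]
      exact hs.symm
    obtain ⟨W', g, w', h1, h2⟩ := (Φ.toPresheafFiber_eq_iff' (P := G.obj) W w _ _).1 e
    refine ⟨W', g ≫ a.val, hom η w' default, ⟨F.obj.map g.op (F.obj.map b.val.op σ), ?_⟩, ?_⟩
    · rw [op_comp, Functor.map_comp]
      exact (NatTrans.naturality_apply v.hom g.op _).trans h2.symm
    · exact ((congrArg (fun q => hom η q default)
        (congrArg ((Scheme.pointSmallEtale η).fiber.map a.val) h1)).trans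
        (congrArg (fun q => hom η q default) a.property)).trans ht
  exact (Sheaf.isLocallySurjective_iff_epi' (A := Type (u + 1)) v).1 this

/-- Isomorphisms are detected by stalks. -/
theorem isIso_of_stalks_sets {F G : EtDesc.Sh X} (v : F ⟶ G)
    (h : ∀ (K : Type u) [Field K] [IsSepClosed K] (ξ : Spec (CommRingCat.of K) ⟶ X),
      Function.Bijective ((stalkSh ξ).map v)) : IsIso v :=
  have := mono_of_stalks_sets v fun K _ _ η => (h K η).1
  have := epi_of_stalks_sets v fun K _ _ η => (h K η).2
  isIso_of_mono_of_epi v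

/-- The stalk of an inverse image of a sheaf of sets. -/
noncomputable def stalkPullShIso (f : X ⟶ Y) {Ω : Type u} [Field Ω] [IsSepClosed Ω]
    (ξ : Spec (CommRingCat.of Ω) ⟶ X) : EtDesc.pullSh f ⋙ stalkSh ξ ≅ stalkSh (ξ ≫ f) := by
  let Ψ := (Scheme.pointSmallEtale ξ).comap (EtCoh.bc f) (EtCoh.coverPreserving_bc f)
  let α : Ψ ⟶ Scheme.pointSmallEtale (ξ ≫ f) := ⟨(fiberIso f ξ).inv⟩
  let β : Scheme.pointSmallEtale (ξ ≫ f) ⟶ Ψ := ⟨(fiberIso f ξ).hom⟩
  have hαβ : α ≫ β = 𝟙 _ := GrothendieckTopology.Point.hom_ext (fiberIso f ξ).hom_inv_id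
  have hβα : β ≫ α = 𝟙 _ := GrothendieckTopology.Point.hom_ext (fiberIso f ξ).inv_hom_id
  exact ((Scheme.pointSmallEtale ξ).sheafFiberComapIso (EtCoh.bc f) (EtCoh.coverPreserving_bc f)
      (Type (u + 1))).symm ≪≫
    { hom := β.sheafFiber
      inv := α.sheafFiber
      hom_inv_id := by
        rw [← GrothendieckTopology.Point.Hom.sheafFiber_comp, hαβ,
          GrothendieckTopology.Point.Hom.sheafFiber_id]
      inv_hom_id := by
        rw [← GrothendieckTopology.Point.Hom.sheafFiber_comp, hβα,
          GrothendieckTopology.Point.Hom.sheafFiber_id] }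

/-- Sections over an empty scheme are unique. -/
theorem unique_sections_of_isEmpty (F : EtDesc.Sh X) (U : X.Etale) [IsEmpty U.left] :
    Nonempty (Unique (F.obj.obj (op U))) := by
  have hS : (⊥ : Sieve U) ∈ X.smallEtaleTopology U := mem_topology fun x => isEmptyElim x
  obtain ⟨t, -, ht⟩ := ((isSheaf_iff_isSheaf_of_type _ _).1 F.property) _ hS
    (fun _ _ h => h.elim) (fun _ _ _ _ _ _ _ h => h.elim)
  exact ⟨{ default := t, uniq := fun s => ht s fun _ _ h => h.elim }⟩

/-- A sheaf of sets is final iff it has exactly one section everywhere. -/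
theorem isIso_terminal_from_iff (F : EtDesc.Sh X) :
    IsIso (terminal.from F) ↔ ∀ U, Nonempty (Unique (F.obj.obj (op U))) := by
  have hT : ∀ U : X.Etale, Unique ((⊤_ EtDesc.Sh X).obj.obj (op U)) := fun U =>
    Types.isTerminalEquivUnique _ (terminalIsTerminal.isTerminalObj
      (sheafToPresheaf X.smallEtaleTopology (Type (u + 1)) ⋙ (evaluation _ _).obj (op U)) _)
  constructor
  · intro h U
    exact ⟨@Equiv.unique _ _ (hT U) (((sheafToPresheaf _ _).mapIso (asIso (terminal.from F))).app (op U)).toEquiv⟩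
  · intro h
    have : ∀ U : X.Etaleᵒᵖ, IsIso ((terminal.from F).hom.app U) := fun U => by
      obtain ⟨i⟩ := h U.unop
      haveI : Unique ((⊤_ EtDesc.Sh X).obj.obj U) := hT U.unop
      haveI : Unique (F.obj.obj U) := i
      rw [isIso_iff_bijective]
      exact ⟨fun a b _ => Subsingleton.elim a b, fun b => ⟨default, Subsingleton.elim _ b⟩⟩
    have : IsIso ((sheafToPresheaf X.smallEtaleTopology (Type (u + 1))).map (terminal.from F)) :=
      (NatIso.isIso_of_isIso_app (terminal.from F).hom :)
    exact isIso_of_fully_faithful (sheafToPresheaf X.smallEtaleTopology (Type (u + 1))) _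

variable {Ω : Type u} [Field Ω] [IsSepClosed Ω] (ξ : Spec (CommRingCat.of Ω) ⟶ X)

/-- A stalk with a cofinal family of neighbourhoods with one section has one element. -/
theorem unique_stalk_of_refined (F : EtDesc.Sh X)
    (h : ∀ (U : X.Etale) (t : Pt ξ U), ∃ (V : X.Etale) (g : V ⟶ U) (t' : Pt ξ V),
      (Scheme.pointSmallEtale ξ).fiber.map g t' = t ∧ Nonempty (Unique (F.obj.obj (op V)))) :
    Nonempty (Unique ((stalkSh ξ).obj F)) := by
  let Φ := Scheme.pointSmallEtale ξ
  obtain ⟨⟨U₀, t₀⟩⟩ : Nonempty Φ.fiber.Elements := IsCofiltered.nonempty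
  obtain ⟨V₀, -, t₀', -, ⟨hu⟩⟩ := h U₀ t₀
  refine ⟨{ default := Φ.toPresheafFiber V₀ t₀' F.obj hu.default, uniq := fun a => ?_ }⟩
  obtain ⟨U, t, z₁, z₂, h1, h2⟩ := Φ.toPresheafFiber_jointly_surjective₂ (P := F.obj) a
    (Φ.toPresheafFiber V₀ t₀' F.obj hu.default)
  rw [← h1, ← h2]
  obtain ⟨V, g, t', hg, ⟨hV⟩⟩ := h U t
  exact (Φ.toPresheafFiber_eq_iff' (P := F.obj) U t z₁ z₂).2 ⟨V, g, t', hg, (hV.uniq _).trans (hV.uniq _).symm⟩

/-- The stalks of a final sheaf have one element. -/
theorem unique_stalk_of_isIso (F : EtDesc.Sh X) (h : IsIso (terminal.from F)) :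
    Nonempty (Unique ((stalkSh ξ).obj F)) :=
  unique_stalk_of_refined ξ F fun U t =>
    ⟨U, 𝟙 U, t, by simp, (isIso_terminal_from_iff F).1 h U⟩

/-- A sheaf with one element stalks is final. -/
theorem isIso_terminal_of_stalks (F : EtDesc.Sh X)
    (h : ∀ (K : Type u) [Field K] [IsSepClosed K] (η : Spec (CommRingCat.of K) ⟶ X),
      Nonempty (Unique ((stalkSh η).obj F))) : IsIso (terminal.from F) :=
  isIso_of_stalks_sets _ fun K _ _ η => by
    obtain ⟨i⟩ := h K η
    obtain ⟨j⟩ := unique_stalk_of_isIso η (⊤_ EtDesc.Sh X) (by rw [terminal.hom_ext (terminal.from _) (𝟙 _)]; infer_instance)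
    exact ⟨fun a b _ => (i.uniq a).trans (i.uniq b).symm, fun b => ⟨i.default, (j.uniq _).trans (j.uniq b).symm⟩⟩

end Groth.Agent.An92.EtSets
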